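import Groth.Agent.H16Derived.BaseChange.Finiteness
import Groth.Agent.H16Derived.KFlat.PerfConcD
import Groth.Agent.H16Derived.KFlat.PerfCohSingle
import Groth.Agent.H16Derived.GenAmpleZero
import Groth.Agent.H16Derived.QCohD.Perfect
import Groth.Agent.H11Ample.Ample

/-!
# The unit `F ⟶ Rπ_* Lπ^* F` on perfect objects
-/

set_option autoImplicit false
set_option linter.style.haveILetI false
set_option backward.isDefEq.respectTransparency false

universe u

open CategoryTheory CategoryTheory.Limits AlgebraicGeometry CategoryTheory.Pretriangulated Opposite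

attribute [local instance] HasDerivedCategory.standard

noncomputable section

namespace Groth.Agent.H16Derived.PnD

open Groth.Agent.H16Derived.KFlat Groth.Agent.H16Derived.KFlat.Stalk
open Groth.Agent.H16Derived.Thomason Groth.Agent.H16Derived.BaseChange Groth.Agent.H16Derived.QCohD Groth.Agent.H10Coh

variable {X : Scheme.{u}}

theorem end_comm (f g : Coh.structureModule X ⟶ Coh.structureModule X) : f ≫ g = g ≫ f := by
  refine Scheme.Modules.hom_ext _ _ fun U => ConcreteCategory.hom_ext _ _ fun s => ?_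
  show g.app U (f.app U s) = f.app U (g.app U s)
  have key : ∀ (k : Coh.structureModule X ⟶ Coh.structureModule X) (t : Γ(X, U)),
      k.app U (show Γ(Coh.structureModule X, U) from t) = t • k.app U (H11Ample.one U) := fun k t => by
    exact (congrArg (k.app U) (H11Ample.smul_one_eq t).symm).trans (Scheme.Modules.Hom.app_smul k t (H11Ample.one U))
  have h : ∀ (k : Coh.structureModule X ⟶ Coh.structureModule X),
      ∃ c : Γ(X, U), ∀ t : Γ(X, U), k.app U (show Γ(Coh.structureModule X, U) from t) =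
        (show Γ(Coh.structureModule X, U) from t * c) := fun k =>
    ⟨k.app U (H11Ample.one U), fun t => key k t⟩
  obtain ⟨a, ha⟩ := h f
  obtain ⟨b, hb⟩ := h g
  rw [show f.app U s = _ from ha s, show g.app U s = _ from hb s, hb, ha]
  show ((show Γ(X, U) from s) * a) * b = ((show Γ(X, U) from s) * b) * a
  exact mul_right_comm (show Γ(X, U) from s) a b

theorem inD_end_comm (f g : DCoh.inD X (Coh.structureModule X) ⟶ DCoh.inD X (Coh.structureModule X)) :
    f ≫ g = g ≫ f := by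
  obtain ⟨f, rfl⟩ := (DerivedCategory.singleFunctor X.Modules 0).map_surjective f
  obtain ⟨g, rfl⟩ := (DerivedCategory.singleFunctor X.Modules 0).map_surjective g
  rw [← Functor.map_comp, ← Functor.map_comp, end_comm]

theorem isPerfect_one (X : Scheme.{u}) : DCoh.IsPerfect (DCoh.inD X (Coh.structureModule X)) :=
  isPerfect_inD (M := Coh.structureModule X) fun x => ⟨⊤, 1, trivial,
    ⟨(Scheme.Modules.restrictFunctorIsoPullback (⊤ : X.Opens).ι).app _ ≪≫ structurePullbackIso (⊤ : X.Opens).ι ≪≫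
      (coproductUniqueIso fun _ : Fin 1 => Coh.structureModule (↑(⊤ : X.Opens) : Scheme.{u})).symm⟩⟩

/-- On an affine scheme the structure sheaf generates. -/
theorem isZero_of_orth_one [IsAffine X] {K : DCoh.D X} (hK : DCoh.IsQCohD K)
    (h : ∀ (n : ℤ) (f : (DCoh.inD X (Coh.structureModule X))⟦n⟧ ⟶ K), f = 0) : IsZero K := by
  refine MVPush.isZero_of_hd _ fun i => ?_
  have hz : ∀ z : freeSh (⊤ : X.Opens) ⟶ DCoh.HD K i, z = 0 := fun z => by
    obtain ⟨φ, rfl⟩ := (bijective_θ_affine hK (isAffineOpen_top X) i).2 z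
    let e : (DCoh.inD X (Coh.structureModule X))⟦-i⟧ ≅
        (DerivedCategory.singleFunctor X.Modules i).obj (freeSh (⊤ : X.Opens)) :=
      (shiftFunctor _ (-i)).mapIso ((DerivedCategory.singleFunctor X.Modules 0).mapIso freeShTopIso.symm) ≪≫
        ((DerivedCategory.singleFunctors X.Modules).shiftIso (-i) i 0 (by omega)).app _
    rw [(cancel_epi e.hom).1 ((h (-i) (e.hom ≫ φ)).trans comp_zero.symm)]
    simp [θ]
  haveI : Subsingleton Γ(DCoh.HD K i, (⊤ : X.Opens)) :=
    ⟨fun a b => (freeShEquiv ⊤ _).symm.injective ((hz _).trans (hz _).symm)⟩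
  exact H17.FPExt.isZero_of_stalk _ fun x =>
    AffineUnit.subsingleton_stalk_of_sections (hK i) (isAffineOpen_top X) (trivial : x ∈ (⊤ : X.Opens))

variable {P S : Scheme.{u}}

/-- The unit is invertible at the structure sheaf once the two sides are isomorphic. -/
theorem isIso_unit_one {L : DCoh.D S ⥤ DCoh.D P} {R : DCoh.D P ⥤ DCoh.D S} (adj : L ⊣ R)
    (eL : L.obj (DCoh.inD S (Coh.structureModule S)) ≅ DCoh.inD P (Coh.structureModule P))
    (eR : R.obj (DCoh.inD P (Coh.structureModule P)) ≅ DCoh.inD S (Coh.structureModule S)) :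
    IsIso (adj.unit.app (DCoh.inD S (Coh.structureModule S))) := by
  let O := DCoh.inD S (Coh.structureModule S)
  let w : R.obj (L.obj O) ≅ O := R.mapIso eL ≪≫ eR
  let η := adj.unit.app O
  let v : R.obj (DCoh.inD P (Coh.structureModule P)) ⟶ R.obj (L.obj (R.obj (DCoh.inD P (Coh.structureModule P)))) :=
    adj.unit.app _
  have hv : v ≫ R.map (adj.counit.app (DCoh.inD P (Coh.structureModule P))) = 𝟙 _ :=
    adj.right_triangle_components _
  have hn : eR.hom ≫ η = v ≫ R.map (L.map eR.hom) := adj.unit.naturality eR.hom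
  obtain ⟨r, hr⟩ : ∃ r, η ≫ r = 𝟙 O := by
    refine ⟨R.map (L.map eR.inv) ≫ R.map (adj.counit.app _) ≫ eR.hom, ?_⟩
    rw [← cancel_epi eR.hom, reassoc_of% hn, ← Functor.map_comp_assoc (R), ← L.map_comp, Iso.hom_inv_id,
      CategoryTheory.Functor.map_id, CategoryTheory.Functor.map_id, Category.id_comp, reassoc_of% hv, Category.comp_id]
  let c : O ⟶ O := η ≫ w.hom
  let d : O ⟶ O := w.inv ≫ r
  have h1 : c ≫ d = 𝟙 O := by simp [c, d, hr]
  haveI : IsIso c := ⟨d, h1, (inD_end_comm d c).trans h1⟩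
  exact IsIso.of_isIso_comp_right η w.hom

/-- The unit is invertible at perfect objects of an affine base. -/
theorem isIso_unit_affine [IsAffine S] {L : DCoh.D S ⥤ DCoh.D P} {R : DCoh.D P ⥤ DCoh.D S} (adj : L ⊣ R)
    [L.CommShift ℤ] [L.IsTriangulated] [R.CommShift ℤ] [R.IsTriangulated] [adj.CommShift ℤ]
    (h₀ : IsIso (adj.unit.app (DCoh.inD S (Coh.structureModule S))))
    {F : DCoh.D S} (hF : DCoh.IsPerfect F) : IsIso (adj.unit.app F) := by
  have key : ∀ Tr : Triangle (DCoh.D S), Tr ∈ distTriang _ →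
      ((Triangle.mk Tr.mor₁ Tr.mor₂ Tr.mor₃) ∈ distTriang _) := fun Tr h => h
  let φ : ∀ Tr : Triangle (DCoh.D S), Tr ⟶ (L ⋙ R).mapTriangle.obj Tr := fun Tr =>
    Triangle.homMk _ _ (adj.unit.app _) (adj.unit.app _) (adj.unit.app _)
      (adj.unit.naturality _) (adj.unit.naturality _) (by
        have h1 := adj.unit.naturality Tr.mor₃
        have h2 := NatTrans.shift_app_comm adj.unit (1 : ℤ) Tr.obj₁
        dsimp at h1 h2 ⊢
        simp only [Functor.commShiftIso_id_hom_app, Category.id_comp] at h2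
        exact (congrArg (Tr.mor₃ ≫ ·) h2).trans ((Category.assoc _ _ _).symm.trans ((congrArg (· ≫ _) h1).trans (Category.assoc _ _ _))))
  refine perfect_induction (DCoh.inD S (Coh.structureModule S)) (isPerfect_one S)
    (fun E hE h => isZero_of_orth_one hE h) (fun R' => IsIso (adj.unit.app R')) ?_ (fun R' n _ h => ?_)
    (fun {R' P'} i p hip _ h => ?_) h₀ hF
  · refine ⟨fun h => ⟨isPerfect_zero h, ?_⟩, fun e h => ⟨isPerfect_of_iso e h.1, ?_⟩,
      fun Tr hTr h₁ h₂ => ⟨?_, ?_⟩, fun Tr hTr h₂ h₃ => ⟨?_, ?_⟩, fun A B _ hA hB => ⟨isPerfect_biprod hA.1 hB.1, ?_⟩⟩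
    · exact ⟨0, h.eq_of_src _ _, ((R.map_isZero (L.map_isZero h))).eq_of_src _ _⟩
    · haveI := h.2; exact (NatTrans.isIso_app_iff_of_iso adj.unit e).1 h.2
    · exact (stages_perfect_image (𝟭 (DCoh.D S))).cone Tr hTr ⟨h₁.1, h₁.1⟩ ⟨h₂.1, h₂.1⟩ |>.1
    · exact isIso₃_of_isIso₁₂ (φ Tr) hTr ((L ⋙ R).map_distinguished Tr hTr) h₁.2 h₂.2
    · exact (stages_perfect_image (𝟭 (DCoh.D S))).fib Tr hTr ⟨h₂.1, h₂.1⟩ ⟨h₃.1, h₃.1⟩ |>.1
    · exact isIso₁_of_isIso₂₃ (φ Tr) hTr ((L ⋙ R).map_distinguished Tr hTr) h₂.2 h₃.2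
    · exact isIso₂_of_isIso₁₃ (φ (binaryBiproductTriangle A B)) (binaryBiproductTriangle_distinguished A B)
        ((L ⋙ R).map_distinguished _ (binaryBiproductTriangle_distinguished A B)) hA.2 hB.2
  · haveI := h
    have h2 := NatTrans.shift_app adj.unit n R'
    haveI : IsIso ((Functor.commShiftIso (𝟭 (DCoh.D S)) n).inv.app R' ≫
        adj.unit.app (R'⟦n⟧) ≫ (Functor.commShiftIso (L ⋙ R) n).hom.app R') := h2 ▸ inferInstance
    haveI := IsIso.of_isIso_comp_left ((Functor.commShiftIso (𝟭 (DCoh.D S)) n).inv.app R')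
      (adj.unit.app (R'⟦n⟧) ≫ (Functor.commShiftIso (L ⋙ R) n).hom.app R')
    exact IsIso.of_isIso_comp_right (adj.unit.app (R'⟦n⟧)) ((Functor.commShiftIso (L ⋙ R) n).hom.app R')
  · haveI := h
    refine ⟨R.map (L.map i) ≫ inv (adj.unit.app R') ≫ p, ?_, ?_⟩
    · have := adj.unit.naturality i
      dsimp at this
      rw [← reassoc_of% this, IsIso.hom_inv_id_assoc, hip]; rfl
    · have := adj.unit.naturality p
      dsimp at this
      rw [Category.assoc, Category.assoc, this, IsIso.inv_hom_id_assoc, ← Functor.map_comp, ← Functor.map_comp, hip,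
        CategoryTheory.Functor.map_id, CategoryTheory.Functor.map_id]
      rfl

/-- The unit is invertible at perfect objects, if the direct image of the structure sheaf is the structure sheaf. -/
theorem isIso_unit (π : P ⟶ S) [DCoh.HasLpull π] [DCoh.HasRpush π]
    (eO : (DCoh.Rpush π).obj (DCoh.inD P (Coh.structureModule P)) ≅ DCoh.inD S (Coh.structureModule S))
    {F : DCoh.D S} (hF : DCoh.IsPerfect F) : IsIso ((lpullRpushAdj π).unit.app F) := by
  refine isIso_of_charts _ fun x => ?_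
  obtain ⟨V, hV, hxV⟩ : ∃ V : S.Opens, IsAffineOpen V ∧ x ∈ V := by
    obtain ⟨_, ⟨V, hV : IsAffineOpen V, rfl⟩, hxV, -⟩ :=
      S.isBasis_affineOpens.exists_subset_of_mem_open (Set.mem_univ x) isOpen_univ
    exact ⟨V, hV, hxV⟩
  let π' := π ∣_ (V : S.Opens)
  haveI : IsAffine (↑(V : S.Opens) : Scheme.{u}) := hV
  haveI := hasLpull π'
  haveI := QCohD.hasRpush π'
  haveI := hasLpull (V : S.Opens).ι
  haveI := hasLpull (π ⁻¹ᵁ (V : S.Opens)).ι
  refine ⟨_, (V : S.Opens).ι, inferInstance, inferInstance, by rw [Scheme.Opens.opensRange_ι]; exact hxV, ?_⟩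
  have hsq : IsPullback (π ⁻¹ᵁ (V : S.Opens)).ι π' π (V : S.Opens).ι := (isPullback_morphismRestrict π _).flip
  obtain ⟨χ⟩ := nonempty_sq hsq.w (isLp_self π) (isLp_self π') (isLp_self (V : S.Opens).ι)
    (isLp_self (π ⁻¹ᵁ (V : S.Opens)).ι)
  haveI := isIso_bcApp_openImmersion hsq χ ((DCoh.Lpull π).obj F)
  have h := bcApp_unit (lpullRpushAdj π) (lpullRpushAdj π') χ.hom (c := F) (𝟙 _)
  rw [Adjunction.homEquiv_id, CategoryTheory.Functor.map_id] at h
  simp only [Functor.id_obj, Functor.comp_obj, Adjunction.homEquiv_unit] at h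
  letI := lpullCommShift π'
  haveI := lpull_isTriangulated π'
  letI := rpushCommShift π'
  haveI := rpush_isTriangulated π'
  haveI : (lpullRpushAdj π').CommShift ℤ := (lpullRpushAdj π').commShift_of_leftAdjoint ℤ
  obtain ⟨eR⟩ := nonempty_restrictD_rpush_iso π (V : S.Opens)
  have hO : ∀ {A B : Scheme.{u}} (j : A ⟶ B) [IsOpenImmersion j],
      Nonempty ((rd j).obj (DCoh.inD B (Coh.structureModule B)) ≅ DCoh.inD A (Coh.structureModule A)) := fun j _ =>
    ⟨rdInD j _ ≪≫ (DerivedCategory.singleFunctor _ 0).mapIso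
      ((Scheme.Modules.restrictFunctorIsoPullback j).app _ ≪≫ structurePullbackIso j)⟩
  obtain ⟨a⟩ := hO (π ⁻¹ᵁ (V : S.Opens)).ι
  obtain ⟨b⟩ := hO (V : S.Opens).ι
  have h₀ : IsIso ((lpullRpushAdj π').unit.app (DCoh.inD _ (Coh.structureModule (↑(V : S.Opens) : Scheme.{u})))) :=
    isIso_unit_one (lpullRpushAdj π')
      (lpullSingleIso π' (fun x => ⟨⊤, 1, trivial, ⟨(Scheme.Modules.restrictFunctorIsoPullback (⊤ : (↑(V : S.Opens) : Scheme.{u}).Opens).ι).app _ ≪≫ structurePullbackIso _ ≪≫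
          (coproductUniqueIso fun _ : Fin 1 => Coh.structureModule _).symm⟩⟩) 0 ≪≫
        (DerivedCategory.singleFunctor _ 0).mapIso (structurePullbackIso π'))
      ((DCoh.Rpush π').mapIso a.symm ≪≫ (eR.app _).symm ≪≫ (rd (V : S.Opens).ι).mapIso eO ≪≫ b)
  haveI : IsIso ((lpullRpushAdj π').unit.app ((DCoh.Lpull (V : S.Opens).ι).obj F)) :=
    isIso_unit_affine (lpullRpushAdj π') h₀ (isPerfect_lpull _ hF)
  haveI : IsIso ((DCoh.Lpull (V : S.Opens).ι).map ((lpullRpushAdj π).unit.app F) ≫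
      bcApp (lpullRpushAdj π) (lpullRpushAdj π') χ.hom ((DCoh.Lpull π).obj F)) := by
    rw [h]; infer_instance
  exact IsIso.of_isIso_comp_right _ (bcApp (lpullRpushAdj π) (lpullRpushAdj π') χ.hom ((DCoh.Lpull π).obj F))

end Groth.Agent.H16Derived.PnD
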