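import Groth.Agent.H16Derived.PnD.Twist
import Groth.Agent.H16Derived.BaseChange.Finiteness
import Groth.Agent.H22Alg.PB.Vanish
import Groth.Agent.H22Alg.PB.Twist
import Groth.Agent.H15Site.DerivedRetract
import Groth.Agent.S1067
import Groth.Agent.H10Coh.TensorTilde

/-!
# The twists generate over any base
-/

set_option autoImplicit false
set_option linter.style.haveILetI false
set_option backward.isDefEq.respectTransparency false

universe u

open CategoryTheory CategoryTheory.Limits AlgebraicGeometry CategoryTheory.Pretriangulated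

attribute [local instance] HasDerivedCategory.standard

noncomputable section

namespace Groth.Agent.H16Derived.PnD

open Groth.Agent.H16Derived.KFlat Groth.Agent.H16Derived.KFlat.Stalk Groth.Agent.H16Derived.GenAmple
open Groth.Agent.H16Derived.BaseChange Groth.Agent.H22Alg Groth.Agent.H22Alg.PB Groth.Agent.H10Coh.Stab

variable {X : Scheme.{u}}

/-- Twisting by invertible modules is fully faithful. -/
theorem bijective_lw_map (A B : X.Modules) [PreservesFiniteLimits (lw A)] [PreservesFiniteColimits (lw A)]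
    [PreservesFiniteLimits (lw B)] [PreservesFiniteColimits (lw B)]
    (e₁ : CohB1.tensorMod B A ≅ Coh.structureModule X) (e₂ : CohB1.tensorMod A B ≅ Coh.structureModule X)
    (K L : DCoh.D X) : Function.Bijective (fun φ : K ⟶ L => (lw B).mapDerivedCategory.map φ) := by
  let u : tw (Coh.structureModule X) ≅ 𝟭 _ := (asIso (sig (𝟙 (Coh.structureModule X)))).symm
  let ρ : lw B ⋙ lw A ≅ 𝟭 _ := Functor.isoWhiskerRight (lwIso B) _ ≪≫ Functor.isoWhiskerLeft _ (lwIso A) ≪≫
    twCompIso B A ≪≫ (DCoh.tensorBi (X := X)).flip.mapIso e₁ ≪≫ u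
  let ρ' : lw A ⋙ lw B ≅ 𝟭 _ := Functor.isoWhiskerRight (lwIso A) _ ≪≫ Functor.isoWhiskerLeft _ (lwIso B) ≪≫
    twCompIso A B ≪≫ (DCoh.tensorBi (X := X)).flip.mapIso e₂ ≪≫ u
  exact H15Site.DerivedRetract.bijective_map (P := lw B) (R := lw A) (𝟙 _) ρ'.hom ρ
    (fun G => inferInstance) (fun G => inferInstance) K L

theorem isQCohD_lw {L : X.Modules} (hL : Coh.IsQCoh L) [PreservesFiniteLimits (lw L)]
    [PreservesFiniteColimits (lw L)] {K : DCoh.D X} (hK : DCoh.IsQCohD K) :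
    DCoh.IsQCohD ((lw L).mapDerivedCategory.obj K) := fun i => by
  let C := DerivedCategory.Q.objPreimage K
  let c : DerivedCategory.Q.obj C ≅ K := DerivedCategory.Q.objObjPreimageIso K
  let F := DerivedCategory.homologyFunctor X.Modules i
  have e : (lw L).obj (DCoh.HD K i) ≅ DCoh.HD ((lw L).mapDerivedCategory.obj K) i :=
    (lw L).mapIso (F.mapIso c.symm ≪≫ (DerivedCategory.homologyFunctorFactors X.Modules i).app C) ≪≫
      ((C.sc i).mapHomologyIso (lw L)).symm ≪≫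
      ((DerivedCategory.homologyFunctorFactors X.Modules i).app
        (((lw L).mapHomologicalComplex (ComplexShape.up ℤ)).obj C)).symm ≪≫
      F.mapIso (((lw L).mapDerivedCategoryFactors.app C).symm ≪≫ (lw L).mapDerivedCategory.mapIso c)
  haveI : (DCoh.HD K i).IsQuasicoherent := hK i
  haveI : L.IsQuasicoherent := hL
  exact @H10Coh.isQuasicoherent_of_iso _ _ _ e (H10Coh.TT.isQCoh_tensorMod L (DCoh.HD K i))

theorem isIso_projSpaceMap {A B : Scheme.{u}} (r : ℕ) (φ : A ⟶ B) [IsOpenImmersion φ] :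
    IsOpenImmersion (KRR.projSpaceMap r φ) :=
  MorphismProperty.of_isPullback (P := @IsOpenImmersion) (KBaseChangeCl.isPullback_map φ).flip inferInstance

/-- A shifted structure sheaf pulled back, as a twist. -/
theorem nonempty_lpull_one_shift {T : Scheme.{u}} (f : X ⟶ T) [DCoh.HasLpull f] (A B : X.Modules)
    [PreservesFiniteLimits (lw A)] [PreservesFiniteColimits (lw A)]
    (e : CohB1.tensorMod A B ≅ Coh.structureModule X) (m : ℤ) :
    Nonempty ((DCoh.Lpull f).obj ((DCoh.inD T (Coh.structureModule T))⟦m⟧) ≅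
      (lw A).mapDerivedCategory.obj ((DCoh.inD X B)⟦m⟧)) := by
  letI := lpullCommShift f
  let hT : FlatMod.IsFinLocFree (Coh.structureModule T) := fun _ => ⟨⊤, 1, trivial,
    ⟨(Scheme.Modules.restrictFunctorIsoPullback (⊤ : T.Opens).ι).app _ ≪≫ structurePullbackIso _ ≪≫
      (coproductUniqueIso fun _ : Fin 1 => Coh.structureModule _).symm⟩⟩
  let a := lpullSingleIso f hT 0 ≪≫
    (DerivedCategory.singleFunctor X.Modules 0).mapIso (structurePullbackIso f ≪≫ e.symm) ≪≫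
    (((lw A).mapDerivedCategorySingleFunctor 0).app B).symm
  exact ⟨((DCoh.Lpull f).commShiftIso m).app _ ≪≫ (shiftFunctor _ m).mapIso a ≪≫
    (((lw A).mapDerivedCategory.commShiftIso m).app _).symm⟩

/-- The case of projective space over a ring. -/
theorem isZero_on_projSpace (r : ℕ) (A : Type u) [CommRing A] [DCoh.HasRpush (CohB1.ProjSpace.toSpec r A)]
    [∀ d : ℤ, PreservesFiniteLimits (lw (Twist.twistProjSpace r A d))]
    [∀ d : ℤ, PreservesFiniteColimits (lw (Twist.twistProjSpace r A d))]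
    (K : DCoh.D (CohB1.ProjSpace r A)) (hq : DCoh.IsQCohD K)
    (hK : ∀ j : ℕ, j ≤ r → IsZero ((DCoh.Rpush (CohB1.ProjSpace.toSpec r A)).obj
      ((lw (Twist.twistProjSpace r A (-(j : ℤ)))).mapDerivedCategory.obj K))) : IsZero K := by
  let O' : ℤ → (CohB1.ProjSpace r A).Modules := fun d => Twist.twistProjSpace r A d
  have hO' : IsTwistFamily O' := H10Coh.Stab.isTwistFamily_projSpace r A
  let f' := CohB1.ProjSpace.toSpec r A
  haveI := hasLpull f'
  obtain ⟨c⟩ : Nonempty ((lw (O' (r : ℤ))).mapDerivedCategory.obj ((lw (O' (-(r : ℤ)))).mapDerivedCategory.obj K) ≅ K) := by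
    obtain ⟨z⟩ := hO'.zero
    obtain ⟨p⟩ := hO'.add (-(r : ℤ)) (r : ℤ)
    obtain ⟨w⟩ := nonempty_lw_lw (O' (r : ℤ)) (O' (-(r : ℤ))) (O' (-(r : ℤ) + r)) p K
    obtain ⟨w'⟩ := nonempty_lw_one (O' (-(r : ℤ) + r)) (eqToIso (congrArg O' (neg_add_cancel (r : ℤ))) ≪≫ z) K
    exact ⟨w ≪≫ w'⟩
  refine (((lw (O' (r : ℤ))).mapDerivedCategory.map_isZero ?_).of_iso c.symm)
  refine S1067.result r A _ (isQCohD_lw (H8Props.FinLocFree.isQCoh_of_isFinLocFree _ (PnVan.finLocFree_of_inv (hO'.inv _))) hq) fun d hd m φ => ?_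
  obtain ⟨z⟩ := hO'.zero
  obtain ⟨p⟩ := hO'.add (d : ℤ) (-(d : ℤ))
  obtain ⟨p'⟩ := hO'.add (-(d : ℤ)) (d : ℤ)
  refine (bijective_lw_map (O' (-(d : ℤ))) (O' (d : ℤ))
    (p ≪≫ eqToIso (congrArg O' (add_neg_cancel (d : ℤ))) ≪≫ z)
    (p' ≪≫ eqToIso (congrArg O' (neg_add_cancel (d : ℤ))) ≪≫ z) _ _).1 ?_
  show (lw (O' (d : ℤ))).mapDerivedCategory.map φ = (lw (O' (d : ℤ))).mapDerivedCategory.map 0
  rw [Functor.map_zero]
  obtain ⟨q⟩ := hO'.add (-(r : ℤ)) (d : ℤ)
  obtain ⟨w⟩ := nonempty_lw_lw (O' (d : ℤ)) (O' (-(r : ℤ))) (O' (-(r : ℤ) + d)) q K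
  let eR : (lw (O' (d : ℤ))).mapDerivedCategory.obj ((lw (O' (-(r : ℤ)))).mapDerivedCategory.obj K) ≅
      (lw (O' (-((r - d : ℕ) : ℤ)))).mapDerivedCategory.obj K :=
    w ≪≫ eqToIso (congrArg (fun n => (lw (O' n)).mapDerivedCategory.obj K) (show -(r : ℤ) + d = -((r - d : ℕ) : ℤ) by omega))
  let one := DCoh.inD (Spec (CommRingCat.of A)) (Coh.structureModule (Spec (CommRingCat.of A)))
  obtain ⟨eL⟩ := nonempty_lpull_one_shift f' (O' (d : ℤ)) (O' (-(d : ℤ)))
    (p ≪≫ eqToIso (congrArg O' (add_neg_cancel (d : ℤ))) ≪≫ z) m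
  let χ' := eL.hom ≫ (lw (O' (d : ℤ))).mapDerivedCategory.map φ ≫ eR.hom
  have : χ' = 0 := ((lpullRpushAdj f').homEquiv _ _).injective ((hK (r - d) (Nat.sub_le r d)).eq_of_tgt _ _)
  exact (cancel_mono eR.hom).1 (((cancel_epi eL.hom).1 (this.trans comp_zero.symm)).trans zero_comp.symm)


variable (r : ℕ) (S : Scheme.{u})

/-- An object killed by `r + 1` consecutive twisted direct images is zero. -/
theorem isZero_of_twists [DCoh.HasRpush (KRR.pr r S)]
    [∀ d : ℤ, PreservesFiniteLimits (lw (Twist.twistOver r S d))]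
    [∀ d : ℤ, PreservesFiniteColimits (lw (Twist.twistOver r S d))]
    {C : DCoh.D (KRR.PY r S)} (hC : DCoh.IsQCohD C)
    (h : ∀ j : ℕ, j ≤ r → IsZero ((DCoh.Rpush (KRR.pr r S)).obj
      ((lw (Twist.twistOver r S (-(j : ℤ)))).mapDerivedCategory.obj C))) : IsZero C := by
  refine isZero_of_cover fun x => ?_
  obtain ⟨V, hV, hxV⟩ : ∃ V : S.Opens, IsAffineOpen V ∧ (KRR.pr r S).base x ∈ V := by
    obtain ⟨_, ⟨V, hV : IsAffineOpen V, rfl⟩, hxV, -⟩ :=
      S.isBasis_affineOpens.exists_subset_of_mem_open (Set.mem_univ ((KRR.pr r S).base x)) isOpen_univ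
    exact ⟨V, hV, hxV⟩
  let A : Type u := Γ(S, V)
  let i : Spec (CommRingCat.of A) ⟶ S := hV.fromSpec
  obtain ⟨a, ha, haw, ⟨σ⟩⟩ := exists_affine_iso r A
  haveI := ha
  let ψ : CohB1.ProjSpace r A ⟶ KRR.PY r S := a ≫ KRR.projSpaceMap r i
  haveI := isIso_projSpaceMap r i
  haveI : IsOpenImmersion ψ := inferInstance
  let f' := CohB1.ProjSpace.toSpec r A
  have hsq : IsPullback ψ f' (KRR.pr r S) i := by
    refine IsPullback.of_iso (KBaseChangeCl.isPullback_map i) (asIso a).symm (Iso.refl _) (Iso.refl _) (Iso.refl _) ?_ ?_ ?_ ?_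
    · show KRR.projSpaceMap r i ≫ 𝟙 _ = inv a ≫ a ≫ KRR.projSpaceMap r i
      rw [IsIso.inv_hom_id_assoc, Category.comp_id]
    · show KRR.pr r _ ≫ 𝟙 _ = inv a ≫ f'
      rw [Category.comp_id, show f' = _ from haw.symm, IsIso.inv_hom_id_assoc]
    · simp
    · simp
  let O' : ℤ → (CohB1.ProjSpace r A).Modules := fun d => Twist.twistProjSpace r A d
  have hO' : IsTwistFamily O' := H10Coh.Stab.isTwistFamily_projSpace r A
  have hO : IsTwistFamily (fun d => Twist.twistOver r S d) := isTwistFamily_twistOver r S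
  have heq : ∀ d : ℤ, Nonempty ((Scheme.Modules.pullback ψ).obj (Twist.twistOver r S d) ≅ O' d) := fun d => by
    obtain ⟨b⟩ := BCReg.nonempty_pull_twist (n := r) i (1 : ℤ)
    exact nonempty_family_iso (hO.pullback ψ) hO'
      ⟨((Scheme.Modules.pullbackComp a (KRR.projSpaceMap r i)).app _).symm ≪≫
        (Scheme.Modules.pullback a).mapIso b ≪≫ σ⟩ d
  haveI : ∀ d : ℤ, PreservesFiniteLimits (lw (O' d)) := fun d => (exact_lw (hO'.inv d)).1
  haveI : ∀ d : ℤ, PreservesFiniteColimits (lw (O' d)) := fun d => (exact_lw (hO'.inv d)).2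
  let K := (rd ψ).obj C
  haveI := hasLpull i
  haveI := hasLpull ψ
  haveI := hasLpull (KRR.pr r S)
  haveI := hasLpull f'
  haveI := QCohD.hasRpush f'
  obtain ⟨χ⟩ := nonempty_sq hsq.w (isLp_self (KRR.pr r S)) (isLp_self f') (isLp_self i) (isLp_self ψ)
  have hK : ∀ j : ℕ, j ≤ r → IsZero ((DCoh.Rpush f').obj ((lw (O' (-(j : ℤ)))).mapDerivedCategory.obj K)) := by
    intro j hj
    let Y := (lw (Twist.twistOver r S (-(j : ℤ)))).mapDerivedCategory.obj C
    haveI := isIso_bcApp_openImmersion hsq χ Y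
    obtain ⟨e⟩ := heq (-(j : ℤ))
    obtain ⟨t⟩ := nonempty_rd_lw (Twist.twistOver r S (-(j : ℤ))) ψ (O' (-(j : ℤ))) e C
    obtain ⟨l⟩ := QCohD.lpull_openImmersion ψ Y
    letI := lpullCommShift i
    haveI := lpull_isTriangulated i
    exact ((DCoh.Lpull i).map_isZero (h j hj)).of_iso ((DCoh.Rpush f').mapIso (t.symm ≪≫ l.symm) ≪≫
      (asIso (bcApp (lpullRpushAdj (KRR.pr r S)) (lpullRpushAdj f') χ.hom Y)).symm)
  have hz : IsZero K := isZero_on_projSpace r A K (QCohD.isQCohD_rd ψ hC) hK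
  refine ⟨ψ.opensRange, ?_, isZero_rd_of_factor ψ.isoOpensRange.inv ψ _ ψ.isoOpensRange_inv_comp hz⟩
  show x ∈ Set.range ψ
  rw [show Set.range ψ = (KRR.pr r S).base ⁻¹' Set.range i from ?_]
  · show (KRR.pr r S).base x ∈ Set.range i
    show _ ∈ Set.range hV.fromSpec
    rw [IsAffineOpen.range_fromSpec]
    exact hxV
  · rw [show ψ = hsq.isoPullback.hom ≫ pullback.fst _ _ from (hsq.isoPullback_hom_fst).symm, ← Scheme.Hom.coe_opensRange,
      Scheme.Hom.opensRange_comp_of_isIso, Scheme.Hom.coe_opensRange, Scheme.Pullback.range_fst]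

end Groth.Agent.H16Derived.PnD
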