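import Groth.Agent.H16Derived.PnD.Unit
import Groth.Agent.H16Derived.PnD.Gen
import Groth.Agent.S8669
import Groth.Agent.H27KZero.TrBasic
import Groth.Prelude.Def_SGA6

/-!
# `K₀` of perfect complexes on a projective space over a scheme
-/

set_option autoImplicit false
set_option linter.style.haveILetI false
set_option backward.isDefEq.respectTransparency false

universe u

open CategoryTheory CategoryTheory.Limits AlgebraicGeometry CategoryTheory.Pretriangulated

attribute [local instance] HasDerivedCategory.standard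

noncomputable section

namespace Groth.Agent.H16Derived.PnD

open Groth.Agent.H16Derived.KFlat Groth.Agent.H16Derived.KFlat.Stalk
open Groth.Agent.H16Derived.Thomason Groth.Agent.H22Alg Groth.Agent.H22Alg.PB Groth.Agent.H10Coh.Stab

section Push

variable {X Y : Scheme.{u}}

/-- A module without higher direct images. -/
theorem nonempty_rpush_inD (f : X ⟶ Y) [DCoh.HasRpush f] (M : X.Modules)
    (hvan : ∀ p : ℕ, 1 ≤ p → IsZero ((Coh.RpushAb f p).obj (Coh.toAb M))) :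
    Nonempty ((DCoh.Rpush f).obj (DCoh.inD X M) ≅ DCoh.inD Y ((Scheme.Modules.pushforward f).obj M)) := by
  haveI := QCohD.hasInjectiveResolutions_modules (X := X)
  let K := (DCoh.Rpush f).obj (DCoh.inD X M)
  haveI : K.IsGE 0 := isGE_rpush f _ 0
  haveI : K.IsLE 0 := by
    rw [DerivedCategory.isLE_iff]
    intro i hi
    obtain ⟨p, rfl⟩ : ∃ p : ℕ, i = (p : ℤ) := ⟨i.toNat, by omega⟩
    obtain ⟨e⟩ := QCohD.nonempty_hd_rpush_single f M p
    refine IsZero.of_iso ?_ e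
    rw [IsZero.iff_id_eq_zero]
    exact (H10Coh.shF Y).map_injective
      (((hvan p (by omega)).of_iso (H10Coh.nonempty_toAb_rpush f M p).some).eq_of_src _ _)
  obtain ⟨N, ⟨e⟩⟩ := DerivedCategory.exists_iso_singleFunctor_obj_of_isGE_of_isLE K 0
  obtain ⟨e'⟩ := QCohD.nonempty_hd_rpush_single f M 0
  exact ⟨e ≪≫ (DerivedCategory.singleFunctor Y.Modules 0).mapIso ((hdInD N).symm ≪≫
    (DerivedCategory.homologyFunctor Y.Modules 0).mapIso e.symm ≪≫ e' ≪≫
    (Scheme.Modules.pushforward f).rightDerivedZeroIsoSelf.app M)⟩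

theorem isPerfect_lw {L : X.Modules} (hL : PicF.IsInvertible L) [PreservesFiniteLimits (lw L)]
    [PreservesFiniteColimits (lw L)] {K : DCoh.D X} (hK : DCoh.IsPerfect K) :
    DCoh.IsPerfect ((lw L).mapDerivedCategory.obj K) := by
  refine isPerfect_of_rd fun x => ?_
  obtain ⟨U, hxU, ⟨e⟩⟩ := hL x
  let O := Coh.structureModule (↑U : Scheme.{u})
  haveI := (exact_lw (L := O) (PnDeg0.isInvertible_structure _)).1
  haveI := (exact_lw (L := O) (PnDeg0.isInvertible_structure _)).2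
  obtain ⟨a⟩ := nonempty_rd_lw L U.ι O ((Scheme.Modules.restrictFunctorIsoPullback U.ι).symm.app L ≪≫ e) K
  obtain ⟨b⟩ := nonempty_lw_one O (Iso.refl _) ((rd U.ι).obj K)
  exact ⟨U, hxU, isPerfect_of_iso (a ≪≫ b).symm (isPerfect_rd U.ι hK)⟩

end Push

section K0

variable {X Y : Scheme.{u}}

theorem closed_perfP (X : Scheme.{u}) : H27KZero.Tr.Closed (SGA6.perfP X) where
  zero _ h := isPerfect_zero h
  iso e h := isPerfect_of_iso e h
  shift _ n h := isPerfect_shift h n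

theorem mapTr_clTr (F : DCoh.D X ⥤ DCoh.D Y) [F.CommShift ℤ] [F.IsTriangulated]
    (h : ∀ K, SGA6.perfP X K → SGA6.perfP Y (F.obj K)) {K : DCoh.D X} (hK : SGA6.perfP X K) :
    SGA6.mapTr F (SGA6.perfP X) (SGA6.perfP Y) h (KZero.clTr (SGA6.perfP X) K) = KZero.clTr (SGA6.perfP Y) (F.obj K) := by
  rw [KZero.clTr, KZero.clTr, dif_pos hK, dif_pos (h K hK)]
  rfl

theorem hom_ext {G : Type*} [AddCommGroup G] (f g : SGA6.Kperf X →+ G)
    (h : ∀ K, DCoh.IsPerfect K → f (KZero.clTr (SGA6.perfP X) K) = g (KZero.clTr (SGA6.perfP X) K)) : f = g :=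
  AddMonoidHom.eq_of_eqOn_dense (H27KZero.Tr.closure_eq_top (P := SGA6.perfP X)
    (AddSubgroup.closure {x | ∃ K, DCoh.IsPerfect K ∧ KZero.clTr (SGA6.perfP X) K = x})
    fun K hK => AddSubgroup.subset_closure ⟨K, hK, rfl⟩) fun x ⟨K, hK, hx⟩ => hx ▸ h K hK

end K0

variable (r : ℕ) (S : Scheme.{u})

/-- Twisting on the derived category. -/
abbrev TT [∀ d : ℤ, PreservesFiniteLimits (lw (Twist.twistOver r S d))]
    [∀ d : ℤ, PreservesFiniteColimits (lw (Twist.twistOver r S d))] (d : ℤ) :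
    DCoh.D (KRR.PY r S) ⥤ DCoh.D (KRR.PY r S) :=
  (lw (Twist.twistOver r S d)).mapDerivedCategory

theorem isPn : IsPn r (KRR.pr r S) (fun d => Twist.twistOver r S d) := S8669.isPn_trivial S r

theorem isPerfect_R [DCoh.HasRpush (KRR.pr r S)] {K : DCoh.D (KRR.PY r S)} (hK : DCoh.IsPerfect K) :
    DCoh.IsPerfect ((DCoh.Rpush (KRR.pr r S)).obj K) := by
  haveI := (isPn r S).isProper
  haveI := (isPn r S).flat
  haveI := PBQC.isLFP (isPn r S)
  exact BaseChange.isPerfect_rpush (KRR.pr r S) hK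

theorem isIso_unit_pn [DCoh.HasLpull (KRR.pr r S)] [DCoh.HasRpush (KRR.pr r S)] {F : DCoh.D S} (hF : DCoh.IsPerfect F) :
    IsIso ((lpullRpushAdj (KRR.pr r S)).unit.app F) := by
  obtain ⟨z⟩ := (isPn r S).tw.zero
  obtain ⟨a⟩ := nonempty_rpush_inD (KRR.pr r S) (Coh.structureModule (KRR.PY r S)) fun p hp =>
    Van.of_iso z ((isPn r S).van_O (d := 0) (i := p) (by omega) (by omega))
  have hO : FlatMod.IsFinLocFree (Coh.structureModule S) := PnVan.finLocFree_of_inv (PnDeg0.isInvertible_structure S)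
  haveI := (isPn r S).isIso_unit (H8Props.FinLocFree.isQCoh_of_isFinLocFree _ hO)
  refine isIso_unit (KRR.pr r S) (a ≪≫ (DerivedCategory.singleFunctor S.Modules 0).mapIso
    ((Scheme.Modules.pushforward (KRR.pr r S)).mapIso (structurePullbackIso (KRR.pr r S)).symm ≪≫
      (asIso ((Scheme.Modules.pullbackPushforwardAdjunction (KRR.pr r S)).unit.app (Coh.structureModule S))).symm)) hF

variable [∀ d : ℤ, PreservesFiniteLimits (lw (Twist.twistOver r S d))]
  [∀ d : ℤ, PreservesFiniteColimits (lw (Twist.twistOver r S d))]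

theorem isPerfect_T (d : ℤ) {K : DCoh.D (KRR.PY r S)} (hK : DCoh.IsPerfect K) :
    DCoh.IsPerfect (((TT r S) d).obj K) :=
  isPerfect_lw ((isPn r S).tw.inv d) hK

theorem nonempty_T_T (a b c : ℤ) (h : b + a = c) (K : DCoh.D (KRR.PY r S)) :
    Nonempty (((TT r S) a).obj (((TT r S) b).obj K) ≅ ((TT r S) c).obj K) := by
  subst h
  obtain ⟨p⟩ := (isPn r S).tw.add b a
  exact nonempty_lw_lw _ _ _ p K

theorem nonempty_T_zero (K : DCoh.D (KRR.PY r S)) : Nonempty (((TT r S) 0).obj K ≅ K) := by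
  obtain ⟨z⟩ := (isPn r S).tw.zero
  exact nonempty_lw_one _ z K

theorem isZero_R_T_L [DCoh.HasLpull (KRR.pr r S)] [DCoh.HasRpush (KRR.pr r S)] {d : ℤ} (h₁ : -(r : ℤ) ≤ d) (h₂ : d < 0)
    {F : DCoh.D S} (hF : DCoh.IsPerfect F) :
    IsZero ((DCoh.Rpush (KRR.pr r S)).obj (((TT r S) d).obj ((DCoh.Lpull (KRR.pr r S)).obj F))) := by
  obtain ⟨a⟩ := nonempty_rpush_inD (KRR.pr r S) (Twist.twistOver r S d) fun p hp =>
    (isPn r S).van_O (d := d) (i := p) (by omega) (by omega)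
  refine isZero_rpush_lw_lpull (KRR.pr r S) _ (IsZero.of_iso ((DerivedCategory.singleFunctor S.Modules 0).map_isZero ?_) a) hF
  haveI := QCohD.hasInjectiveResolutions_modules (X := KRR.PY r S)
  rw [IsZero.iff_id_eq_zero]
  exact (H10Coh.shF S).map_injective
    ((IsZero.of_iso ((isPn r S).van_O (d := d) (i := 0) (by omega) (by omega))
      ((H10Coh.shF S).mapIso ((Scheme.Modules.pushforward (KRR.pr r S)).rightDerivedZeroIsoSelf.app _).symm ≪≫
        (H10Coh.nonempty_toAb_rpush (KRR.pr r S) _ 0).some)).eq_of_src _ _)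

variable [DCoh.HasLpull (KRR.pr r S)] [(DCoh.Lpull (KRR.pr r S)).CommShift ℤ] [(DCoh.Lpull (KRR.pr r S)).IsTriangulated]
  (hf : ∀ K : DCoh.D S, DCoh.IsPerfect K → DCoh.IsPerfect ((DCoh.Lpull (KRR.pr r S)).obj K))

/-- `y ↦ ξⁱ (KRR.pr r S)^* y`. -/
def psi (i : ℕ) : SGA6.Kperf S →+ SGA6.Kperf (KRR.PY r S) :=
  (SGA6.mapTr ((TT r S) (i : ℤ)) (SGA6.perfP _) (SGA6.perfP _) (fun _ h => isPerfect_T r S i h)).comp
    (SGA6.mapTr (DCoh.Lpull (KRR.pr r S)) (SGA6.perfP S) (SGA6.perfP _) hf)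

theorem psi_clTr (i : ℕ) {F : DCoh.D S} (hF : DCoh.IsPerfect F) :
    psi r S hf i (KZero.clTr (SGA6.perfP S) F) =
      KZero.clTr (SGA6.perfP _) (((TT r S) (i : ℤ)).obj ((DCoh.Lpull (KRR.pr r S)).obj F)) := by
  rw [psi, AddMonoidHom.comp_apply, mapTr_clTr _ _ hF, mapTr_clTr _ _ (hf F hF)]

theorem injective_psi : Function.Injective (fun x : Fin (r + 1) → SGA6.Kperf S => ∑ i : Fin (r + 1), psi r S hf i (x i)) := by
  haveI := QCohD.hasRpush (KRR.pr r S)
  letI := rpushCommShift (KRR.pr r S)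
  haveI := rpush_isTriangulated (KRR.pr r S)
  let Φ : ℕ → (SGA6.Kperf (KRR.PY r S) →+ SGA6.Kperf S) := fun j =>
    (SGA6.mapTr (DCoh.Rpush (KRR.pr r S)) (SGA6.perfP _) (SGA6.perfP S) (fun _ h => isPerfect_R r S h)).comp
      (SGA6.mapTr ((TT r S) (-(j : ℤ))) (SGA6.perfP _) (SGA6.perfP _) (fun _ h => isPerfect_T r S _ h))
  have hd : ∀ j : ℕ, (Φ j).comp (psi r S hf j) = AddMonoidHom.id _ := fun j => hom_ext _ _ fun F hF => by
    rw [AddMonoidHom.comp_apply, psi_clTr r S hf j hF, AddMonoidHom.id_apply, AddMonoidHom.comp_apply,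
      mapTr_clTr _ _ (isPerfect_T r S _ (hf F hF)), mapTr_clTr _ _ (isPerfect_T r S _ (isPerfect_T r S _ (hf F hF)))]
    obtain ⟨a⟩ := nonempty_T_T r S (-(j : ℤ)) (j : ℤ) 0 (add_neg_cancel _) ((DCoh.Lpull (KRR.pr r S)).obj F)
    obtain ⟨b⟩ := nonempty_T_zero r S ((DCoh.Lpull (KRR.pr r S)).obj F)
    haveI := isIso_unit_pn r S hF
    exact (H27KZero.Tr.cl_iso (closed_perfP S) (asIso ((lpullRpushAdj (KRR.pr r S)).unit.app F) ≪≫
      (DCoh.Rpush (KRR.pr r S)).mapIso (a ≪≫ b).symm) hF).symm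
  have hz : ∀ i j : ℕ, i < j → j ≤ r → (Φ j).comp (psi r S hf i) = 0 := fun i j hij hj => hom_ext _ _ fun F hF => by
    rw [AddMonoidHom.comp_apply, psi_clTr r S hf i hF, AddMonoidHom.zero_apply, AddMonoidHom.comp_apply,
      mapTr_clTr _ _ (isPerfect_T r S _ (hf F hF)), mapTr_clTr _ _ (isPerfect_T r S _ (isPerfect_T r S _ (hf F hF)))]
    obtain ⟨a⟩ := nonempty_T_T r S (-(j : ℤ)) (i : ℤ) ((i : ℤ) - j) (sub_eq_add_neg _ _).symm ((DCoh.Lpull (KRR.pr r S)).obj F)
    exact H27KZero.Tr.cl_zero (closed_perfP S)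
      ((isZero_R_T_L r S (d := (i : ℤ) - j) (by omega) (by omega) hF).of_iso ((DCoh.Rpush (KRR.pr r S)).mapIso a))
  intro x y hxy
  by_contra hne
  classical
  obtain ⟨j, hj, hmax⟩ : ∃ j : Fin (r + 1), x j ≠ y j ∧ ∀ i, j < i → x i = y i := by
    have hne' : (Finset.univ.filter fun i => x i ≠ y i).Nonempty := by
      obtain ⟨i, hi⟩ := Function.ne_iff.1 hne
      exact ⟨i, by simp [hi]⟩
    refine ⟨Finset.max' _ hne', (Finset.mem_filter.1 (Finset.max'_mem _ hne')).2, fun i hi => ?_⟩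
    by_contra hi'
    exact (lt_irrefl _) (lt_of_le_of_lt (Finset.le_max' _ i (by simp [hi'])) hi)
  have h : ∀ z : Fin (r + 1) → SGA6.Kperf S, (∀ i, j < i → z i = 0) →
      Φ j (∑ i : Fin (r + 1), psi r S hf i (z i)) = z j := fun z hzero => by
    rw [map_sum, Finset.sum_eq_single j (fun i _ hij => ?_) (fun h => absurd (Finset.mem_univ j) h)]
    · exact congrArg (fun f : SGA6.Kperf S →+ SGA6.Kperf S => f (z j)) (hd j)
    · rcases lt_or_gt_of_ne hij with hlt | hgt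
      · exact congrArg (fun f : SGA6.Kperf S →+ SGA6.Kperf S => f (z i)) (hz i j hlt (Nat.lt_succ_iff.1 j.2))
      · rw [hzero i hgt, map_zero, map_zero]
  refine hj (sub_eq_zero.1 ?_)
  rw [← Pi.sub_apply, ← h (x - y) fun i hi => sub_eq_zero.2 (hmax i hi)]
  simp only [Pi.sub_apply, map_sub, Finset.sum_sub_distrib]
  rw [show (∑ i : Fin (r + 1), psi r S hf i (x i)) = ∑ i : Fin (r + 1), psi r S hf i (y i) from hxy, sub_self]

theorem surjective_psi : Function.Surjective (fun x : Fin (r + 1) → SGA6.Kperf S => ∑ i : Fin (r + 1), psi r S hf i (x i)) := by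
  haveI := QCohD.hasRpush (KRR.pr r S)
  letI := rpushCommShift (KRR.pr r S)
  haveI := rpush_isTriangulated (KRR.pr r S)
  classical
  let Ψ : (Fin (r + 1) → SGA6.Kperf S) →+ SGA6.Kperf (KRR.PY r S) :=
    ∑ i : Fin (r + 1), (psi r S hf i).comp (Pi.evalAddMonoidHom _ i)
  have hΨ : ∀ x, Ψ x = ∑ i : Fin (r + 1), psi r S hf i (x i) := fun x => by
    simp [Ψ, AddMonoidHom.finsetSum_apply]
  suffices key : ∀ k : ℕ, k ≤ r + 1 → ∀ K : DCoh.D (KRR.PY r S), DCoh.IsPerfect K →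
      (∀ j : ℕ, k ≤ j → j ≤ r → IsZero ((DCoh.Rpush (KRR.pr r S)).obj (((TT r S) (-(j : ℤ))).obj K))) →
      KZero.clTr (SGA6.perfP _) K ∈ Ψ.range by
    intro y
    have : Ψ.range = ⊤ := H27KZero.Tr.closure_eq_top _ fun K hK => key (r + 1) le_rfl K hK fun j h₁ h₂ => absurd h₁ (by omega)
    obtain ⟨x, hx⟩ := AddMonoidHom.mem_range.1 (this ▸ AddSubgroup.mem_top y : y ∈ Ψ.range)
    exact ⟨x, (hΨ x).symm.trans hx⟩
  intro k
  induction k with
  | zero =>
    intro _ K hK h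
    rw [H27KZero.Tr.cl_zero (closed_perfP _) (isZero_of_twists r S (Dual.isQCohD_of_isPerfect hK) fun j hj => h j (Nat.zero_le j) hj)]
    exact AddSubgroup.zero_mem _
  | succ k ih =>
    intro hk K hK h
    let a := lpullRpushAdj (KRR.pr r S)
    let K' := ((TT r S) (-(k : ℤ))).obj K
    have hK' : DCoh.IsPerfect K' := isPerfect_T r S _ hK
    let F := (DCoh.Rpush (KRR.pr r S)).obj K'
    have hF : DCoh.IsPerfect F := isPerfect_R r S hK'
    obtain ⟨C', p, q, hT⟩ := distinguished_cocone_triangle (a.counit.app K')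
    have hC' : DCoh.IsPerfect C' := isPerfect_obj₃ hT (hf F hF) hK'
    have hC : DCoh.IsPerfect (((TT r S) (k : ℤ)).obj C') := isPerfect_T r S _ hC'
    haveI := isIso_unit_pn r S hF
    haveI : IsIso ((DCoh.Rpush (KRR.pr r S)).map (a.counit.app K')) := by
      haveI : IsIso (a.unit.app F ≫ (DCoh.Rpush (KRR.pr r S)).map (a.counit.app K')) := by
        erw [a.right_triangle_components]
        exact inferInstanceAs (IsIso (𝟙 _))
      exact IsIso.of_isIso_comp_left (a.unit.app F) _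
    have hRC : IsZero ((DCoh.Rpush (KRR.pr r S)).obj C') :=
      (Triangle.isZero₃_iff_isIso₁ _ ((DCoh.Rpush (KRR.pr r S)).map_distinguished _ hT)).2
        ‹IsIso ((DCoh.Rpush (KRR.pr r S)).map (a.counit.app K'))›
    obtain ⟨e₁⟩ := nonempty_T_T r S (k : ℤ) (-(k : ℤ)) 0 (neg_add_cancel _) K
    obtain ⟨e₀⟩ := nonempty_T_zero r S K
    have htri := H27KZero.Tr.triangle (P := SGA6.perfP _) (((TT r S) (k : ℤ)).map_distinguished _ hT)
      (isPerfect_T r S _ (hf F hF)) (isPerfect_T r S _ hK') hC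
    have hK2 : KZero.clTr (SGA6.perfP _) (((TT r S) (k : ℤ)).obj K') = KZero.clTr (SGA6.perfP _) K :=
      H27KZero.Tr.cl_iso (closed_perfP _) (e₁ ≪≫ e₀) (isPerfect_T r S _ hK')
    rw [← hK2]
    refine htri.symm ▸ AddSubgroup.add_mem _ ⟨Pi.single ⟨k, by omega⟩ (KZero.clTr (SGA6.perfP S) F), ?_⟩
      (ih (by omega) _ hC fun j hkj hjr => ?_)
    · rw [hΨ, Finset.sum_eq_single (⟨k, by omega⟩ : Fin (r + 1))
        (fun i _ hi => by rw [Pi.single_eq_of_ne hi, map_zero]) (fun h => absurd (Finset.mem_univ _) h),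
        Pi.single_eq_same]
      exact psi_clTr r S hf k hF
    · obtain ⟨c⟩ := nonempty_T_T r S (-(j : ℤ)) (k : ℤ) ((k : ℤ) - j) (sub_eq_add_neg _ _).symm C'
      refine IsZero.of_iso ?_ ((DCoh.Rpush (KRR.pr r S)).mapIso c)
      rcases eq_or_lt_of_le hkj with rfl | hlt
      · obtain ⟨z⟩ := nonempty_T_zero r S C'
        exact hRC.of_iso ((DCoh.Rpush (KRR.pr r S)).mapIso (eqToIso (congrArg (fun d : ℤ => ((TT r S) d).obj C') (sub_self (k : ℤ))) ≪≫ z))
      · refine Triangle.isZero₃_of_isZero₁₂ _ ((DCoh.Rpush (KRR.pr r S)).map_distinguished _ (((TT r S) ((k : ℤ) - j)).map_distinguished _ hT))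
          (isZero_R_T_L r S (d := (k : ℤ) - j) (by omega) (by omega) hF) ?_
        obtain ⟨c'⟩ := nonempty_T_T r S ((k : ℤ) - j) (-(k : ℤ)) (-(j : ℤ)) (by ring) K
        exact (h j hlt hjr).of_iso ((DCoh.Rpush (KRR.pr r S)).mapIso c')

end Groth.Agent.H16Derived.PnD
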