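import Groth.Agent.H16Derived.PnD.UnitQ
import Groth.Agent.H16Derived.PnD.Free
import Groth.Agent.H16Derived.BaseChange.FinitePC
import Groth.Agent.H16Derived.ProperSupp.Tensor

/-!
# Pseudo-coherence on a projective space is detected by the twisted direct images
-/

set_option autoImplicit false
set_option linter.style.haveILetI false
set_option backward.isDefEq.respectTransparency false

universe u

open CategoryTheory CategoryTheory.Limits AlgebraicGeometry CategoryTheory.Pretriangulated ZeroObject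

attribute [local instance] HasDerivedCategory.standard

noncomputable section

namespace Groth.Agent.H16Derived.PnD

open Groth.Agent.H16Derived.KFlat Groth.Agent.H16Derived.KFlat.Stalk
open Groth.Agent.H16Derived.Thomason Groth.Agent.H22Alg Groth.Agent.H22Alg.PB Groth.Agent.H10Coh.Stab

variable {X : Scheme.{u}}

/-- Pseudo-coherent. -/
abbrev AllPC (K : DCoh.D X) : Prop := ∀ m : ℤ, DCoh.IsPseudoCoherentD m K

theorem AllPC.of_iso {K L : DCoh.D X} (e : K ≅ L) (h : AllPC K) : AllPC L :=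
  fun m => isPseudoCoherentD_of_iso e (h m)

theorem AllPC.shift {K : DCoh.D X} (h : AllPC K) (n : ℤ) : AllPC (K⟦n⟧) :=
  fun m => isPseudoCoherentD_shift (h (n + m)) n m rfl

theorem AllPC.obj₃ {T : Triangle (DCoh.D X)} (hT : T ∈ distTriang _) (h₁ : AllPC T.obj₁) (h₂ : AllPC T.obj₂) :
    AllPC T.obj₃ :=
  fun m => isPseudoCoherentD_obj₃ hT (h₁ _) (h₂ m)

theorem AllPC.obj₂ {T : Triangle (DCoh.D X)} (hT : T ∈ distTriang _) (h₁ : AllPC T.obj₁) (h₃ : AllPC T.obj₃) :
    AllPC T.obj₂ :=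
  AllPC.obj₃ (inv_rot_of_distTriang _ hT) (h₃.shift (-1)) h₁

theorem allPC_lw {L : X.Modules} (hL : PicF.IsInvertible L) [PreservesFiniteLimits (lw L)]
    [PreservesFiniteColimits (lw L)] {K : DCoh.D X} (hK : AllPC K) : AllPC ((lw L).mapDerivedCategory.obj K) := by
  intro m
  refine isPseudoCoherentD_of_rd fun x => ?_
  obtain ⟨U, hxU, ⟨e⟩⟩ := hL x
  let O := Coh.structureModule (↑U : Scheme.{u})
  haveI := (exact_lw (L := O) (PnDeg0.isInvertible_structure _)).1
  haveI := (exact_lw (L := O) (PnDeg0.isInvertible_structure _)).2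
  obtain ⟨a⟩ := nonempty_rd_lw L U.ι O ((Scheme.Modules.restrictFunctorIsoPullback U.ι).symm.app L ≪≫ e) K
  obtain ⟨b⟩ := nonempty_lw_one O (Iso.refl _) ((rd U.ι).obj K)
  exact ⟨U, hxU, isPseudoCoherentD_of_iso (a ≪≫ b).symm (isPseudoCoherentD_rd U.ι (hK m))⟩

theorem nonempty_ltensorMod_lw (M : X.Modules) [DCoh.HasLTensorMod M] [PreservesFiniteLimits (lw M)]
    [PreservesFiniteColimits (lw M)] (E : DCoh.D X) :
    Nonempty ((DCoh.LTensorMod M).obj E ≅ (lw M).mapDerivedCategory.obj E) := by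
  haveI : PreservesFiniteLimits (GenAmple.tw M) := preservesFiniteLimits_of_natIso (lwIso M)
  haveI : PreservesFiniteColimits (GenAmple.tw M) := preservesFiniteColimits_of_natIso (lwIso M)
  obtain ⟨a⟩ := GenAmple.nonempty_ltensorMod_tw M E
  obtain ⟨b⟩ := nonempty_mapDerived_iso (lwIso M).symm E
  exact ⟨a ≪≫ b⟩

variable {P S : Scheme.{u}} {r : ℕ} {π : P ⟶ S} {O : ℤ → P.Modules}

theorem nonempty_push_one (hπ : IsPn r π O) [DCoh.HasRpush π] :
    Nonempty ((DCoh.Rpush π).obj (DCoh.inD P (Coh.structureModule P)) ≅ DCoh.inD S (Coh.structureModule S)) := by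
  obtain ⟨z⟩ := hπ.tw.zero
  obtain ⟨a⟩ := nonempty_rpush_inD π (Coh.structureModule P) fun p hp =>
    Van.of_iso z (hπ.van_O (d := 0) (i := p) (by omega) (by omega))
  have hO : FlatMod.IsFinLocFree (Coh.structureModule S) := PnVan.finLocFree_of_inv (PnDeg0.isInvertible_structure S)
  haveI := hπ.isIso_unit (H8Props.FinLocFree.isQCoh_of_isFinLocFree _ hO)
  exact ⟨a ≪≫ (DerivedCategory.singleFunctor S.Modules 0).mapIso
    ((Scheme.Modules.pushforward π).mapIso (structurePullbackIso π).symm ≪≫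
      (asIso ((Scheme.Modules.pullbackPushforwardAdjunction π).unit.app (Coh.structureModule S))).symm)⟩

theorem isZero_push_O (hπ : IsPn r π O) [DCoh.HasRpush π] {d : ℤ} (h₁ : -(r : ℤ) ≤ d) (h₂ : d < 0) :
    IsZero ((DCoh.Rpush π).obj (DCoh.inD P (O d))) := by
  obtain ⟨a⟩ := nonempty_rpush_inD π (O d) fun p hp => hπ.van_O (d := d) (i := p) (by omega) (by omega)
  refine IsZero.of_iso ((DerivedCategory.singleFunctor S.Modules 0).map_isZero ?_) a
  haveI := QCohD.hasInjectiveResolutions_modules (X := P)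
  rw [IsZero.iff_id_eq_zero]
  exact (H10Coh.shF S).map_injective
    ((IsZero.of_iso (hπ.van_O (d := d) (i := 0) (by omega) (by omega))
      ((H10Coh.shF S).mapIso ((Scheme.Modules.pushforward π).rightDerivedZeroIsoSelf.app _).symm ≪≫
        (H10Coh.nonempty_toAb_rpush π _ 0).some)).eq_of_src _ _)

theorem isQCohD_inD_inv {L : X.Modules} (hL : PicF.IsInvertible L) : DCoh.IsQCohD (DCoh.inD X L) :=
  Dual.isQCohD_of_isPerfect (isPerfect_inD (M := L) (PnVan.finLocFree_of_inv hL))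

/-- `Rπ_*(A ⊗ Lπ^*F)` vanishes when `Rπ_* A` does, for `F` with quasi-coherent cohomology. -/
theorem isZero_rpush_lw_lpull_qcoh [QuasiCompact π] [QuasiSeparated π] [DCoh.HasLpull π] [DCoh.HasRpush π]
    (A : P.Modules) [PreservesFiniteLimits (lw A)] [PreservesFiniteColimits (lw A)] (hA : DCoh.IsQCohD (DCoh.inD P A))
    (h : IsZero ((DCoh.Rpush π).obj (DCoh.inD P A))) {F : DCoh.D S} (hF : DCoh.IsQCohD F) :
    IsZero ((DCoh.Rpush π).obj ((lw A).mapDerivedCategory.obj ((DCoh.Lpull π).obj F))) := by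
  haveI := isGrothendieckAbelian_modules (X := P)
  obtain ⟨N, j, hN⟩ := KInjRes.exists_resolution_functor (A := P.Modules)
  let C := DerivedCategory.Q.objPreimage (DCoh.inD P A)
  let I := N.obj C
  haveI : I.IsKInjective := (hN C).2.2.1
  haveI : IsIso (DerivedCategory.Q.map (j.app C)) := KFlat.Stalk.isIso_Q_map _ (hN C).2.1
  let eI : DerivedCategory.Q.obj I ≅ DCoh.inD P A :=
    (asIso (DerivedCategory.Q.map (j.app C))).symm ≪≫ DerivedCategory.Q.objObjPreimageIso _
  haveI := ProjFormula.isIso_η₀ π I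
  haveI := ProjFormula.isIso_θ_of_isQCohD π I (QCohD.isQCohD_iso eI.symm hA) F hF
  have hzero : IsZero (((Dual.T S).obj F).obj (DerivedCategory.Q.obj ((ProjFormula.pushCx π).obj I))) :=
    ((Dual.T S).obj F).map_isZero (h.of_iso (asIso ((ProjFormula.η₀ π).app I) ≪≫ (DCoh.Rpush π).mapIso eI))
  have hz : IsZero ((ProjFormula.GG π I).obj F) :=
    IsZero.of_iso (hzero.of_iso (Dual.σ _ _)) (asIso ((ProjFormula.θ π I).app F)).symm
  haveI := hasLTensorMod A
  obtain ⟨e₁⟩ := ProperSupp.nonempty_ltensorMod_iso ((DCoh.Lpull π).obj F) A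
  obtain ⟨e₂⟩ := nonempty_ltensorMod_lw A ((DCoh.Lpull π).obj F)
  exact hz.of_iso ((DCoh.Rpush π).mapIso (e₂.symm ≪≫ e₁ ≪≫ Dual.σ _ _ ≪≫
    (((Dual.T P).mapIso eI).app _).symm))

variable [∀ d : ℤ, PreservesFiniteLimits (lw (O d))] [∀ d : ℤ, PreservesFiniteColimits (lw (O d))]

/-- If the twisted direct images are pseudo-coherent, so is the object. -/
theorem allPC_of_twists (hπ : IsPn r π O) [DCoh.HasLpull π] [DCoh.HasRpush π]
    (hgen : ∀ C : DCoh.D P, DCoh.IsQCohD C → (∀ j : ℕ, j ≤ r → IsZero ((DCoh.Rpush π).obj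
      ((lw (O (-(j : ℤ)))).mapDerivedCategory.obj C))) → IsZero C)
    {K : DCoh.D P} (hK : DCoh.IsQCohD K)
    (h : ∀ j : ℕ, j ≤ r → AllPC ((DCoh.Rpush π).obj ((lw (O (-(j : ℤ)))).mapDerivedCategory.obj K))) : AllPC K := by
  haveI := hπ.isProper
  haveI := hπ.flat
  haveI := PBQC.isLFP hπ
  letI := lpullCommShift π
  haveI := lpull_isTriangulated π
  letI := rpushCommShift π
  haveI := rpush_isTriangulated π
  obtain ⟨eO⟩ := nonempty_push_one hπ
  let TO : ℤ → (DCoh.D P ⥤ DCoh.D P) := fun d => (lw (O d)).mapDerivedCategory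
  have hq : ∀ (d : ℤ) {M : DCoh.D P}, DCoh.IsQCohD M → DCoh.IsQCohD ((lw (O d)).mapDerivedCategory.obj M) :=
    fun d M hM => isQCohD_lw (H8Props.FinLocFree.isQCoh_of_isFinLocFree _ (hπ.finLocFree_O d)) hM
  have hTT : ∀ (a b c : ℤ) (_ : b + a = c) (M : DCoh.D P), Nonempty ((lw (O a)).mapDerivedCategory.obj
      ((lw (O b)).mapDerivedCategory.obj M) ≅ (lw (O c)).mapDerivedCategory.obj M) := fun a b c h M => by
    subst h
    obtain ⟨p⟩ := hπ.tw.add b a
    exact nonempty_lw_lw _ _ _ p M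
  obtain ⟨z₀⟩ := hπ.tw.zero
  suffices key : ∀ k : ℕ, k ≤ r + 1 → ∀ K : DCoh.D P, DCoh.IsQCohD K →
      (∀ j : ℕ, k ≤ j → j ≤ r → IsZero ((DCoh.Rpush π).obj ((lw (O (-(j : ℤ)))).mapDerivedCategory.obj K))) →
      (∀ j : ℕ, j < k → AllPC ((DCoh.Rpush π).obj ((lw (O (-(j : ℤ)))).mapDerivedCategory.obj K))) → AllPC K by
    exact key (r + 1) le_rfl K hK (fun j h₁ h₂ => absurd h₁ (by omega)) fun j hj => h j (by omega)
  intro k
  induction k with
  | zero =>
    intro _ K hK h _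
    have hz := hgen K hK fun j hj => h j (Nat.zero_le j) hj
    exact fun m => isPseudoCoherentD_of_isPerfect (Thomason.isPerfect_zero hz) m
  | succ k ih =>
    intro hk K hK h hpc
    let a := lpullRpushAdj π
    let K' := (lw (O (-(k : ℤ)))).mapDerivedCategory.obj K
    have hK' : DCoh.IsQCohD K' := hq _ hK
    let F := (DCoh.Rpush π).obj K'
    have hF : AllPC F := hpc k (Nat.lt_succ_self k)
    have hFq : DCoh.IsQCohD F := QCohD.isQCohD_rpush π hK'
    have hLF : AllPC ((DCoh.Lpull π).obj F) := fun m => isPseudoCoherentD_lpull π (hF m)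
    obtain ⟨C', p, q, hT⟩ := distinguished_cocone_triangle (a.counit.app K')
    have hC' : DCoh.IsQCohD C' := QCohD.AffineUnit.isQCohD_obj₃ hT (QCohD.isQCohD_lpull π hFq) hK'
    haveI := isIso_unit_qcoh π eO hFq
    haveI : IsIso ((DCoh.Rpush π).map (a.counit.app K')) := by
      haveI : IsIso (a.unit.app F ≫ (DCoh.Rpush π).map (a.counit.app K')) := by
        erw [a.right_triangle_components]
        exact inferInstanceAs (IsIso (𝟙 _))
      exact IsIso.of_isIso_comp_left (a.unit.app F) _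
    have hRC : IsZero ((DCoh.Rpush π).obj C') :=
      (Triangle.isZero₃_iff_isIso₁ _ ((DCoh.Rpush π).map_distinguished _ hT)).2
        ‹IsIso ((DCoh.Rpush π).map (a.counit.app K'))›
    let C := (lw (O (k : ℤ))).mapDerivedCategory.obj C'
    have htri := (lw (O (k : ℤ))).mapDerivedCategory.map_distinguished _ hT
    obtain ⟨e₁⟩ := hTT (k : ℤ) (-(k : ℤ)) 0 (neg_add_cancel _) K
    obtain ⟨e₀⟩ := nonempty_lw_one (O 0) z₀ K
    refine AllPC.of_iso (e₁ ≪≫ e₀) (AllPC.obj₂ htri (allPC_lw (hπ.tw.inv _) hLF)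
      (ih (by omega) C (hq _ hC') (fun j hkj hjr => ?_) fun j hjk => ?_))
    · obtain ⟨c⟩ := hTT (-(j : ℤ)) (k : ℤ) ((k : ℤ) - j) (sub_eq_add_neg _ _).symm C'
      refine IsZero.of_iso ?_ ((DCoh.Rpush π).mapIso c)
      rcases eq_or_lt_of_le hkj with rfl | hlt
      · obtain ⟨z⟩ := nonempty_lw_one (O 0) z₀ C'
        exact hRC.of_iso ((DCoh.Rpush π).mapIso
          (eqToIso (congrArg (fun d : ℤ => (TO d).obj C') (sub_self (k : ℤ))) ≪≫ z))
      · refine Triangle.isZero₃_of_isZero₁₂ _ ((DCoh.Rpush π).map_distinguished _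
          ((TO ((k : ℤ) - j)).map_distinguished _ hT))
          (isZero_rpush_lw_lpull_qcoh _ (isQCohD_inD_inv (hπ.tw.inv _))
            (isZero_push_O hπ (d := (k : ℤ) - j) (by omega) (by omega)) hFq) ?_
        obtain ⟨c'⟩ := hTT ((k : ℤ) - j) (-(k : ℤ)) (-(j : ℤ)) (by ring) K
        exact (h j hlt hjr).of_iso ((DCoh.Rpush π).mapIso c')
    · obtain ⟨c⟩ := hTT (-(j : ℤ)) (k : ℤ) ((k : ℤ) - j) (sub_eq_add_neg _ _).symm C'
      refine AllPC.of_iso ((DCoh.Rpush π).mapIso c).symm ?_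
      refine AllPC.obj₃ ((DCoh.Rpush π).map_distinguished _
        ((lw (O ((k : ℤ) - j))).mapDerivedCategory.map_distinguished _ hT))
        (BaseChange.isPseudoCoherentD_rpush π (allPC_lw (hπ.tw.inv _) hLF)) ?_
      obtain ⟨c'⟩ := hTT ((k : ℤ) - j) (-(k : ℤ)) (-(j : ℤ)) (by ring) K
      exact AllPC.of_iso ((DCoh.Rpush π).mapIso c').symm (hpc j (by omega))

/-- Twisted direct images of pseudo-coherent objects are pseudo-coherent. -/
theorem allPC_push_twist (hπ : IsPn r π O) [DCoh.HasRpush π] (d : ℤ) {K : DCoh.D P} (hK : AllPC K) :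
    AllPC ((DCoh.Rpush π).obj ((lw (O d)).mapDerivedCategory.obj K)) := by
  haveI := hπ.isProper
  haveI := hπ.flat
  haveI := PBQC.isLFP hπ
  exact BaseChange.isPseudoCoherentD_rpush π (allPC_lw (hπ.tw.inv _) hK)

/-- Projective space over a ring. -/
theorem isPn_projSpace (n : ℕ) (A : Type u) [CommRing A] :
    IsPn n (CohB1.ProjSpace.toSpec n A) (fun d => Twist.twistProjSpace n A d) where
  tw := H10Coh.Stab.isTwistFamily_projSpace n A
  chart x := by
    let T : Scheme.{u} := Spec (CommRingCat.of A)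
    obtain ⟨a, ha, haw, ⟨σ⟩⟩ := exists_affine_iso n A
    haveI := ha
    let φ : (↑(⊤ : T.Opens) : Scheme.{u}) ⟶ T := (⊤ : T.Opens).ι
    haveI : IsIso φ := inferInstanceAs (IsIso T.topIso.hom)
    let ψ := KRR.projSpaceMap n φ
    haveI : IsIso ψ := MorphismProperty.of_isPullback (P := MorphismProperty.isomorphisms Scheme.{u})
      (KBaseChangeCl.isPullback_map φ).flip (MorphismProperty.isomorphisms.infer_property φ)
    obtain ⟨b⟩ := BCReg.nonempty_pull_twist (n := n) φ (1 : ℤ)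
    refine ⟨⟨⊤, ψ ≫ inv a, inferInstance, ?_, ?_, ⟨((Scheme.Modules.pullbackComp ψ (inv a)).app _).symm ≪≫
      (Scheme.Modules.pullback ψ).mapIso ((Scheme.Modules.pullback (inv a)).mapIso σ.symm ≪≫
        (Scheme.Modules.pullbackComp (inv a) a).app _ ≪≫
        (Scheme.Modules.pullbackCongr (IsIso.inv_hom_id a)).app _ ≪≫ (Scheme.Modules.pullbackId _).app _) ≪≫ b⟩⟩, trivial⟩
    · rw [← haw, Category.assoc, IsIso.inv_hom_id_assoc]
      exact (KBaseChangeCl.isPullback_map φ).w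
    · rw [Scheme.Hom.opensRange_of_isIso]
      rfl

end Groth.Agent.H16Derived.PnD
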