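import Groth.Agent.H16Derived.GenAmpleGamma
import Groth.Agent.H16Derived.ProjFormula.Main
import Groth.Agent.H16Derived.KFlat.SheafAssoc
import Groth.Agent.H16Derived.KFlat.Single
import Groth.Agent.H10Coh.TensorBasics

/-!
# Twisting by an invertible module on the derived category
-/

set_option autoImplicit false
set_option linter.style.haveILetI false
set_option backward.isDefEq.respectTransparency false

universe u

open CategoryTheory CategoryTheory.Limits AlgebraicGeometry ZeroObject

attribute [local instance] HasDerivedCategory.standard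

noncomputable section

namespace Groth.Agent.H16Derived.PnD

open Groth.Agent.H16Derived.KFlat Groth.Agent.H16Derived.KFlat.Stalk Groth.Agent.H16Derived.GenAmple

variable {X Y P S : Scheme.{u}}

/-- `L ⊗ -`. -/
abbrev lw (L : X.Modules) : X.Modules ⥤ X.Modules := (DCoh.tensorBi (X := X)).obj L

/-- `L ⊗ - ≅ - ⊗ L`. -/
def lwIso (L : X.Modules) : lw L ≅ tw L :=
  NatIso.ofComponents (fun M => H10Coh.Tw.commIso L M) fun {M N} g => by
    refine ((CohB1.sheafifyMod X).map_comp _ _).symm.trans (Eq.trans ?_ ((CohB1.sheafifyMod X).map_comp _ _))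
    exact congrArg (CohB1.sheafifyMod X).map (BraidedCategory.braiding_naturality_right (CohB1.toPMod L) _)

theorem exact_lw {L : X.Modules} (hL : PicF.IsInvertible L) :
    PreservesFiniteLimits (lw L) ∧ PreservesFiniteColimits (lw L) :=
  haveI := (exact_tw (L := L) hL).1
  haveI := (exact_tw (L := L) hL).2
  ⟨preservesFiniteLimits_of_natIso (lwIso L).symm, preservesFiniteColimits_of_natIso (lwIso L).symm⟩

/-- Naturally isomorphic functors act alike on objects of the derived category. -/
theorem nonempty_mapDerived_iso {F G : X.Modules ⥤ Y.Modules} [F.Additive] [PreservesFiniteLimits F]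
    [PreservesFiniteColimits F] [G.Additive] [PreservesFiniteLimits G] [PreservesFiniteColimits G]
    (e : F ≅ G) (K : DCoh.D X) : Nonempty (F.mapDerivedCategory.obj K ≅ G.mapDerivedCategory.obj K) := by
  let C := DerivedCategory.Q.objPreimage K
  let c : DerivedCategory.Q.obj C ≅ K := DerivedCategory.Q.objObjPreimageIso K
  exact ⟨F.mapDerivedCategory.mapIso c.symm ≪≫ F.mapDerivedCategoryFactors.app C ≪≫
    DerivedCategory.Q.mapIso ((NatIso.mapHomologicalComplex e (ComplexShape.up ℤ)).app C) ≪≫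
    (G.mapDerivedCategoryFactors.app C).symm ≪≫ G.mapDerivedCategory.mapIso c⟩

/-- Composites act alike on objects of the derived category. -/
theorem nonempty_mapDerived_comp {Z : Scheme.{u}} (F : X.Modules ⥤ Y.Modules) (G : Y.Modules ⥤ Z.Modules)
    {H : X.Modules ⥤ Z.Modules} [F.Additive] [PreservesFiniteLimits F] [PreservesFiniteColimits F]
    [G.Additive] [PreservesFiniteLimits G] [PreservesFiniteColimits G]
    [H.Additive] [PreservesFiniteLimits H] [PreservesFiniteColimits H] (e : F ⋙ G ≅ H) (K : DCoh.D X) :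
    Nonempty (G.mapDerivedCategory.obj (F.mapDerivedCategory.obj K) ≅ H.mapDerivedCategory.obj K) := by
  let C := DerivedCategory.Q.objPreimage K
  let c : DerivedCategory.Q.obj C ≅ K := DerivedCategory.Q.objObjPreimageIso K
  exact ⟨G.mapDerivedCategory.mapIso (F.mapDerivedCategory.mapIso c.symm ≪≫ F.mapDerivedCategoryFactors.app C) ≪≫
    G.mapDerivedCategoryFactors.app _ ≪≫
    DerivedCategory.Q.mapIso (show (G.mapHomologicalComplex (ComplexShape.up ℤ)).obj
        ((F.mapHomologicalComplex (ComplexShape.up ℤ)).obj C) ≅ (H.mapHomologicalComplex (ComplexShape.up ℤ)).obj C from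
      HomologicalComplex.Hom.isoOfComponents (fun i => e.app (C.X i))
        fun i j _ => (e.hom.naturality (C.d i j)).symm) ≪≫
    (H.mapDerivedCategoryFactors.app C).symm ≪≫ H.mapDerivedCategory.mapIso c⟩

section Ops

variable (A : X.Modules) [PreservesFiniteLimits (lw A)] [PreservesFiniteColimits (lw A)]

theorem nonempty_lw_lw (B C : X.Modules) [PreservesFiniteLimits (lw B)] [PreservesFiniteColimits (lw B)]
    [PreservesFiniteLimits (lw C)] [PreservesFiniteColimits (lw C)] (e : CohB1.tensorMod B A ≅ C) (K : DCoh.D X) :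
    Nonempty ((lw A).mapDerivedCategory.obj ((lw B).mapDerivedCategory.obj K) ≅ (lw C).mapDerivedCategory.obj K) := by
  refine nonempty_mapDerived_comp (lw B) (lw A) ?_ K
  exact Functor.isoWhiskerRight (lwIso B) _ ≪≫ Functor.isoWhiskerLeft _ (lwIso A) ≪≫ twCompIso B A ≪≫
    (DCoh.tensorBi (X := X)).flip.mapIso e ≪≫ (lwIso C).symm

theorem nonempty_lw_one (e : A ≅ Coh.structureModule X) (K : DCoh.D X) :
    Nonempty ((lw A).mapDerivedCategory.obj K ≅ K) := by
  let u : lw A ≅ 𝟭 _ := lwIso A ≪≫ (DCoh.tensorBi (X := X)).flip.mapIso e ≪≫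
    (asIso (sig (𝟙 (Coh.structureModule X)))).symm
  let C := DerivedCategory.Q.objPreimage K
  let c : DerivedCategory.Q.obj C ≅ K := DerivedCategory.Q.objObjPreimageIso K
  exact ⟨(lw A).mapDerivedCategory.mapIso c.symm ≪≫ (lw A).mapDerivedCategoryFactors.app C ≪≫
    DerivedCategory.Q.mapIso (HomologicalComplex.Hom.isoOfComponents (fun i => u.app (C.X i))
      fun i j _ => (u.hom.naturality (C.d i j)).symm) ≪≫ c⟩

theorem nonempty_rd_lw (j : Y ⟶ X) [IsOpenImmersion j] (A' : Y.Modules) [PreservesFiniteLimits (lw A')]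
    [PreservesFiniteColimits (lw A')] (e : (Scheme.Modules.pullback j).obj A ≅ A') (K : DCoh.D X) :
    Nonempty ((rd j).obj ((lw A).mapDerivedCategory.obj K) ≅ (lw A').mapDerivedCategory.obj ((rd j).obj K)) := by
  let R := Scheme.Modules.restrictFunctor j
  haveI : (lw A ⋙ R).Additive := inferInstance
  haveI : (R ⋙ lw A').Additive := inferInstance
  haveI : PreservesFiniteLimits (R ⋙ lw A') := comp_preservesFiniteLimits _ _
  haveI : PreservesFiniteColimits (R ⋙ lw A') := comp_preservesFiniteColimits _ _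
  let σ : lw A ⋙ R ≅ R ⋙ lw A' :=
    Functor.isoWhiskerLeft _ (Scheme.Modules.restrictFunctorIsoPullback j) ≪≫
      Functor.isoWhiskerRight (lwIso A) _ ≪≫ pullTensorLIso j A ≪≫
      Functor.isoWhiskerRight (Scheme.Modules.restrictFunctorIsoPullback j).symm _ ≪≫
      Functor.isoWhiskerLeft _ ((DCoh.tensorBi (X := Y)).flip.mapIso e ≪≫ (lwIso A').symm)
  obtain ⟨a⟩ := nonempty_mapDerived_comp (lw A) R σ K
  obtain ⟨b⟩ := nonempty_mapDerived_comp R (lw A') (Iso.refl _) K
  exact ⟨a ≪≫ b.symm⟩

end Ops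

/-- `Rπ_*(A ⊗ Lπ^*F)` vanishes when `Rπ_* A` does. -/
theorem isZero_rpush_lw_lpull (π : P ⟶ S) [DCoh.HasLpull π] [DCoh.HasRpush π]
    (A : P.Modules) [PreservesFiniteLimits (lw A)] [PreservesFiniteColimits (lw A)]
    (h : IsZero ((DCoh.Rpush π).obj (DCoh.inD P A))) {F : DCoh.D S} (hF : DCoh.IsPerfect F) :
    IsZero ((DCoh.Rpush π).obj ((lw A).mapDerivedCategory.obj ((DCoh.Lpull π).obj F))) := by
  obtain ⟨C, hC, ⟨e⟩⟩ := exists_kflat_rep F
  let W := ((Scheme.Modules.pullback π).mapHomologicalComplex (ComplexShape.up ℤ)).obj C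
  have hC' : DCoh.IsKFlat C := (isKFlat_iff' C).2 hC
  have hW : DCoh.IsKFlat W := (isKFlat_iff' W).2 (isKFlat_pullback π hC)
  haveI := hasLTensorCx C
  haveI := hasLTensorCx W
  obtain ⟨p⟩ := ProjFormula.nonempty_projection_formula C hC' (isPerfect_of_iso e.symm hF) (E := DCoh.inD P A) (f := π)
  have hz : IsZero ((DCoh.LTensorCx C).obj ((DCoh.Rpush π).obj (DCoh.inD P A))) := by
    let Z := (CochainComplex.singleFunctor S.Modules 0).obj 0
    have hZ : ∀ q, IsZero (Z.X q) := fun q =>
      ((HomologicalComplex.eval S.Modules (ComplexShape.up ℤ) q).map_isZero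
        ((CochainComplex.singleFunctor S.Modules 0).map_isZero (isZero_zero S.Modules)))
    have hQ : IsZero (DerivedCategory.Q.obj Z) :=
      DerivedCategory.Q.map_isZero ((CochainComplex.singleFunctor S.Modules 0).map_isZero (isZero_zero S.Modules))
    refine IsZero.of_iso ?_ ((DCoh.LTensorCx C).mapIso (h.iso hQ) ≪≫ ltensorCxObjIso C hC' Z ≪≫
      DerivedCategory.Q.mapIso (singleLeftIso (DCoh.tensorBi (X := S)) Z C (fun q _ => hZ q)).symm)
    refine DerivedCategory.Q.map_isZero ?_
    rw [IsZero.iff_id_eq_zero]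
    refine HomologicalComplex.hom_ext _ _ fun q => ?_
    exact (((DCoh.tensorBi (X := S)).map_isZero (hZ 0)).obj (C.X q)).eq_of_src _ _
  let L := (CochainComplex.singleFunctor P.Modules 0).obj A
  have hL : ∀ p, p ≠ 0 → IsZero (L.X p) := fun p hp => HomologicalComplex.isZero_single_obj_X _ _ _ _ hp
  let t : (DCoh.LTensorCx W).obj (DCoh.inD P A) ≅ (lw A).mapDerivedCategory.obj ((DCoh.Lpull π).obj F) :=
    (DCoh.LTensorCx W).mapIso ((DerivedCategory.singleFunctorIsoCompQ P.Modules 0).app A) ≪≫
      ltensorCxObjIso W hW L ≪≫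
      DerivedCategory.Q.mapIso ((singleLeftIso (DCoh.tensorBi (X := P)) L W hL).symm ≪≫
        (NatIso.mapHomologicalComplex ((DCoh.tensorBi (X := P)).mapIso
          (HomologicalComplex.singleObjXSelf (ComplexShape.up ℤ) 0 A)) (ComplexShape.up ℤ)).app W) ≪≫
      ((lw A).mapDerivedCategoryFactors.app W).symm ≪≫
      (lw A).mapDerivedCategory.mapIso ((lpullObjIso π C hC).symm ≪≫ (DCoh.Lpull π).mapIso e)
  exact hz.of_iso (((DCoh.Rpush π).mapIso t).symm ≪≫ p.symm)

end Groth.Agent.H16Derived.PnD
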