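import Groth.Agent.H16Derived.ProjFormula.DQc
import Groth.Agent.H16Derived.Dual.Symm
import Groth.Agent.H16Derived.Dual.Main
import Groth.Agent.H16Derived.QCohD.RpushUnb
import Mathlib.CategoryTheory.Adjunction.Restrict
import Mathlib.CategoryTheory.Monad.Adjunction

/-!
# The unit `F ⟶ Rπ_* Lπ^* F` on objects with quasi-coherent cohomology
-/

set_option autoImplicit false
set_option linter.style.haveILetI false
set_option backward.isDefEq.respectTransparency false

universe u

open CategoryTheory CategoryTheory.Limits AlgebraicGeometry Functor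

attribute [local instance] HasDerivedCategory.standard

noncomputable section

namespace Groth.Agent.H16Derived.PnD

open Groth.Agent.H16Derived.KFlat Groth.Agent.H16Derived.KFlat.Stalk

variable {X : Scheme.{u}}

/-- `O ⊗^L - = 𝟭`. -/
def leftUnit (X : Scheme.{u}) : (Dual.T X).obj (Dual.one X) ≅ 𝟭 (DCoh.D X) :=
  NatIso.ofComponents (fun b => (Dual.σ b (Dual.one X)).symm ≪≫ (Dual.rightUnit (X := X)).app b) fun {b b'} g => by
    have h := Dual.σ_naturality_left g (Dual.one X)
    have h' := (Dual.rightUnit (X := X)).hom.naturality g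
    show ((Dual.T X).obj (Dual.one X)).map g ≫ (Dual.σ b' (Dual.one X)).inv ≫ (Dual.rightUnit (X := X)).hom.app b' =
      ((Dual.σ b (Dual.one X)).inv ≫ (Dual.rightUnit (X := X)).hom.app b) ≫ g
    have e : ((Dual.T X).obj (Dual.one X)).map g ≫ (Dual.σ b' (Dual.one X)).inv =
        (Dual.σ b (Dual.one X)).inv ≫ ((Dual.T X).map g).app (Dual.one X) := by
      rw [Iso.comp_inv_eq, Category.assoc, h, Iso.inv_hom_id_assoc]
    refine ((Category.assoc _ _ _).symm.trans (congrArg (· ≫ _) e)).trans ?_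
    refine ((Category.assoc _ _ _).trans (congrArg ((Dual.σ b (Dual.one X)).inv ≫ ·) h')).trans ?_
    exact (Category.assoc _ _ _).symm

variable {P S : Scheme.{u}}

/-- The unit is invertible at objects with quasi-coherent cohomology, if the direct image of the structure sheaf is
the structure sheaf. -/
theorem isIso_unit_qcoh (π : P ⟶ S) [QuasiCompact π] [QuasiSeparated π] [DCoh.HasLpull π] [DCoh.HasRpush π]
    (eO : (DCoh.Rpush π).obj (DCoh.inD P (Coh.structureModule P)) ≅ DCoh.inD S (Coh.structureModule S))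
    {F : DCoh.D S} (hF : DCoh.IsQCohD F) : IsIso ((lpullRpushAdj π).unit.app F) := by
  haveI := isGrothendieckAbelian_modules (X := P)
  obtain ⟨N, j, hN⟩ := KInjRes.exists_resolution_functor (A := P.Modules)
  let C := DerivedCategory.Q.objPreimage (DCoh.inD P (Coh.structureModule P))
  let I := N.obj C
  haveI : I.IsKInjective := (hN C).2.2.1
  haveI : IsIso (DerivedCategory.Q.map (j.app C)) := KFlat.Stalk.isIso_Q_map _ (hN C).2.1
  let eI : DerivedCategory.Q.obj I ≅ DCoh.inD P (Coh.structureModule P) :=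
    (asIso (DerivedCategory.Q.map (j.app C))).symm ≪≫ DerivedCategory.Q.objObjPreimageIso _
  have hI : DCoh.IsQCohD (DerivedCategory.Q.obj I) :=
    QCohD.isQCohD_iso eI.symm (ProjFormula.isQCohD_single_structure P 0)
  haveI := ProjFormula.isIso_η₀ π I
  let eP : DerivedCategory.Q.obj I ≅ Dual.one P := eI ≪≫ Dual.oneIso
  let eS : DerivedCategory.Q.obj ((ProjFormula.pushCx π).obj I) ≅ Dual.one S :=
    asIso ((ProjFormula.η₀ π).app I) ≪≫ (DCoh.Rpush π).mapIso eI ≪≫ eO ≪≫ Dual.oneIso
  let aFF : ProjFormula.FF π I ≅ 𝟭 _ := (Dual.T S).mapIso eS ≪≫ leftUnit S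
  let aGG : ProjFormula.GG π I ≅ DCoh.Lpull π ⋙ DCoh.Rpush π :=
    isoWhiskerLeft _ (isoWhiskerRight ((Dual.T P).mapIso eP ≪≫ leftUnit P) _ ≪≫ Functor.leftUnitor _)
  let qS : ObjectProperty (DCoh.D S) := fun K => DCoh.IsQCohD K
  let qP : ObjectProperty (DCoh.D P) := fun K => DCoh.IsQCohD K
  let L' : qS.FullSubcategory ⥤ qP.FullSubcategory :=
    qP.lift (qS.ι ⋙ DCoh.Lpull π) fun K => QCohD.isQCohD_lpull π K.property
  let R' : qP.FullSubcategory ⥤ qS.FullSubcategory :=
    qS.lift (qP.ι ⋙ DCoh.Rpush π) fun K => QCohD.isQCohD_rpush π K.property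
  let adj' : L' ⊣ R' := (lpullRpushAdj π).restrictFullyFaithful qS.fullyFaithfulι qP.fullyFaithfulι
    (Iso.refl _) (Iso.refl _)
  haveI : ∀ K : qS.FullSubcategory, IsIso ((ProjFormula.θ π I).app K.obj) := fun K =>
    ProjFormula.isIso_θ_of_isQCohD π I hI K.obj K.property
  let i : L' ⋙ R' ≅ 𝟭 _ := NatIso.ofComponents
    (fun K => ObjectProperty.isoMk qS ((aGG.app K.obj).symm ≪≫ (asIso ((ProjFormula.θ π I).app K.obj)).symm ≪≫
      aFF.app K.obj))
    fun {K K'} g => by
      apply qS.ι.map_injective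
      have h1 := (aGG.inv ≫ 𝟙 _).naturality g.hom
      have h2 := (ProjFormula.θ π I).naturality g.hom
      have h3 := aFF.hom.naturality g.hom
      dsimp [L', R'] at h1 h2 h3 ⊢
      change (DCoh.Rpush π).map ((DCoh.Lpull π).map g.hom) ≫ aGG.inv.app K'.obj ≫
          inv ((ProjFormula.θ π I).app K'.obj) ≫ aFF.hom.app K'.obj =
        (aGG.inv.app K.obj ≫ inv ((ProjFormula.θ π I).app K.obj) ≫ aFF.hom.app K.obj) ≫ g.hom
      simp only [Category.comp_id, Category.assoc] at h1 ⊢
      rw [reassoc_of% h1]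
      rw [← h3]
      congr 1
      rw [IsIso.eq_inv_comp, ← reassoc_of% h2, IsIso.hom_inv_id_assoc]
  haveI := adj'.isIso_unit_of_iso i
  have h := (lpullRpushAdj π).map_restrictFullyFaithful_unit_app qS.fullyFaithfulι qP.fullyFaithfulι
    (Iso.refl _) (Iso.refl _) ⟨F, hF⟩ (L := L') (R := R')
  have hi : IsIso (qS.ι.map (adj'.unit.app ⟨F, hF⟩)) := inferInstance
  rw [h] at hi
  simp only [Iso.refl_hom, NatTrans.id_app, CategoryTheory.Functor.map_id] at hi
  erw [CategoryTheory.Functor.map_id, Category.comp_id] at hi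
  exact hi

end Groth.Agent.H16Derived.PnD
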